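import Mathlib.AlgebraicGeometry.Morphisms.SchemeTheoreticallyDominant
import Mathlib.AlgebraicGeometry.Morphisms.Separated
import Mathlib.AlgebraicGeometry.Morphisms.ClosedImmersion
import Mathlib.AlgebraicGeometry.FunctionField

/-! Morphisms out of the generic fibre of a flat scheme over an integral base. -/

set_option autoImplicit false
universe u

namespace Groth.Agent.GraphExt

open CategoryTheory AlgebraicGeometry Limits

theorem quasiCompact_fromSpecStalk (T : Scheme.{u}) [IsIntegral T] :
    QuasiCompact (T.fromSpecStalk (genericPoint T)) := by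
  haveI : Subsingleton (Spec (T.presheaf.stalk (genericPoint T))) :=
    inferInstanceAs (Subsingleton (PrimeSpectrum T.functionField))
  exact ⟨fun _ _ _ => Set.Subsingleton.isCompact Set.subsingleton_of_subsingleton⟩

theorem isDominant_fromSpecStalk (T : Scheme.{u}) [IsIntegral T] :
    IsDominant (T.fromSpecStalk (genericPoint T)) := by
  refine ⟨Dense.mono ?_ (dense_iff_closure_eq.mpr (genericPoint_spec T))⟩
  rw [Scheme.range_fromSpecStalk, Set.singleton_subset_iff]
  exact specializes_rfl

theorem std_fst {T Y : Scheme.{u}} [IsIntegral T] (pY : Y ⟶ T) [Flat pY] :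
    IsSchemeTheoreticallyDominant (pullback.fst pY (T.fromSpecStalk (genericPoint T))) ∧
      QuasiCompact (pullback.fst pY (T.fromSpecStalk (genericPoint T))) := by
  haveI := quasiCompact_fromSpecStalk T
  haveI := isDominant_fromSpecStalk T
  haveI := IsSchemeTheoreticallyDominant.of_isDominant (T.fromSpecStalk (genericPoint T))
  exact ⟨inferInstance, inferInstance⟩

theorem ext_of_std {W X Z T : Scheme.{u}} (j : W ⟶ X) [IsSchemeTheoreticallyDominant j] (a b : X ⟶ Z)
    (p : Z ⟶ T) [IsSeparated p] (h : a ≫ p = b ≫ p) (hj : j ≫ a = j ≫ b) : a = b := by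
  let ab : X ⟶ pullback p p := pullback.lift a b h
  have hab1 : ab ≫ pullback.fst p p = a := pullback.lift_fst _ _ _
  have hab2 : ab ≫ pullback.snd p p = b := pullback.lift_snd _ _ _
  let e : pullback ab (pullback.diagonal p) ⟶ X := pullback.fst _ _
  haveI : IsClosedImmersion e := inferInstance
  obtain ⟨k, hk⟩ : ∃ k, k ≫ e = j := ⟨pullback.lift j (j ≫ a) (by
    apply pullback.hom_ext <;> simp [Category.assoc, hab1, hab2, hj]), pullback.lift_fst _ _ _⟩
  have hker : e.ker = ⊥ := le_bot_iff.1 (by
    rw [← IsSchemeTheoreticallyDominant.ker_eq_bot (f := j), ← hk]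
    exact Scheme.Hom.le_ker_comp _ _)
  haveI : IsIso e.ker.subschemeι := by rw [hker]; infer_instance
  haveI : IsIso e := by rw [← e.toImage_imageι]; exact IsIso.comp_isIso
  have hc := pullback.condition (f := ab) (g := pullback.diagonal p)
  have ha : e ≫ a = pullback.snd ab (pullback.diagonal p) := by
    have := congrArg (· ≫ pullback.fst p p) hc; simpa [hab1, e] using this
  have hb : e ≫ b = pullback.snd ab (pullback.diagonal p) := by
    have := congrArg (· ≫ pullback.snd p p) hc; simpa [hab2, e] using this
  rw [← cancel_epi e, ha, hb]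

end Groth.Agent.GraphExt
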